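import Groth.Agent.L27.EtSite.Kummer
import Groth.Agent.L27.EtSite.MuConst
import Groth.Agent.L27.EtSite.HofPush
import Groth.Agent.L27.EtSite.Points
import Groth.Prelude.Def_Dix
import Groth.Prelude.Def_EtGm
import Mathlib.Algebra.Homology.DerivedCategory.Ext.ExactSequences

/-!
Kummer sequence and torsion of the cohomology of the multiplicative group.
-/

set_option autoImplicit false
set_option linter.style.haveILetI false
set_option linter.unusedSectionVars false
set_option backward.isDefEq.respectTransparency.types false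

universe u

open CategoryTheory CategoryTheory.Limits AlgebraicGeometry Opposite CategoryTheory.Abelian

namespace Groth.L28.GmTorsion

variable {X : Scheme.{u}}

theorem isUnit_natCast {n : ℕ} (h : Dix.InvertibleOn X n) : IsUnit (n : Γ(X, ⊤)) :=
  RingedSpace.isUnit_of_isUnit_germ X.toRingedSpace ⊤ _ fun x hx => by
    refine (IsLocalRing.residue_ne_zero_iff_isUnit _).1 ?_
    show (X.presheaf.germ ⊤ x hx ≫ X.residue x).hom (n : Γ(X, ⊤)) ≠ 0
    rw [map_natCast]
    exact h x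

theorem isUnit_natCast_etale {n : ℕ} (h : IsUnit (n : Γ(X, ⊤))) (T : X.Etale) : IsUnit (n : Γ(T.left, ⊤)) := by
  have := h.map T.hom.appTop.hom
  rwa [map_natCast] at this

theorem epi_powMap {n : ℕ} (h : IsUnit (n : Γ(X, ⊤))) : Epi (EtCoh.powMap X n) := by
  refine (Sheaf.isLocallySurjective_iff_epi' AddCommGrpCat.{u + 1} _).mp ⟨fun {T} s => ?_⟩
  refine (Groth.L27.EtSite.mem_topology_iff _).2 fun x => ?_
  let a : Γ(T.left, ⊤)ˣ := Additive.toMul (ULift.down s)
  obtain ⟨V, g, hg, v, b, hv, hb⟩ := Groth.L27.EtSite.exists_root n (isUnit_natCast_etale h T) a x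
  haveI := hg
  haveI : AlgebraicGeometry.Etale T.hom := T.prop
  let W : X.Etale := MorphismProperty.Over.mk ⊤ (g ≫ T.hom) (inferInstanceAs (AlgebraicGeometry.Etale (g ≫ T.hom)))
  let k : W ⟶ T := MorphismProperty.Over.homMk g rfl
  refine ⟨W, k, v, ⟨ULift.up (Additive.ofMul b), ?_⟩, hv⟩
  rw [Groth.L27.MuConst.powMap_app]
  refine ULift.ext _ _ (Additive.toMul.injective (Units.ext ?_))
  exact ((Units.val_pow_eq_pow_val b n).trans hb.symm)

theorem comp_mk₀_powMap (n i : ℕ) (ξ : EtCoh.H X (EtCoh.Gm X) i) :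
    ξ.comp (Ext.mk₀ (EtCoh.powMap X n)) (add_zero i) = n • ξ := by
  let e : (EtCoh.Gm X ⟶ EtCoh.Gm X) →+ EtCoh.H X (EtCoh.Gm X) i :=
    AddMonoidHom.mk' (fun f => ξ.comp (Ext.mk₀ f) (add_zero i)) fun a b => by rw [Ext.mk₀_add, Ext.comp_add]
  show e (EtCoh.powMap X n) = _
  rw [EtCoh.powMap, map_nsmul]
  exact congrArg (n • ·) (Ext.comp_mk₀_id ξ)

theorem range_HF_muι (n : ℕ) (h : IsUnit (n : Γ(X, ⊤))) (i : ℕ) :
    Set.range ⇑((EtCoh.HF X i).map (EtCoh.muι X n)) = {ξ : (EtCoh.HF X i).obj (EtCoh.Gm X) | n • ξ = 0} := by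
  haveI := epi_powMap h
  let S : ShortComplex (EtCoh.Ab X) := ShortComplex.mk (EtCoh.muι X n) (EtCoh.powMap X n) (kernel.condition _)
  have hS : S.ShortExact :=
    { exact := ShortComplex.exact_of_f_is_kernel _ (kernelIsKernel _)
      mono_f := inferInstanceAs (Mono (kernel.ι _))
      epi_g := ‹_› }
  ext ξ
  constructor
  · rintro ⟨z, rfl⟩
    show n • (EtCoh.HF X i).map (EtCoh.muι X n) z = 0
    refine Eq.trans (congrArg (n • ·) (Groth.L27.EtSite.HF_map_apply _ i z)) ?_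
    refine (comp_mk₀_powMap n i _).symm.trans ?_
    exact (Ext.comp_assoc_of_second_deg_zero _ _ _ _).trans
      (by rw [Ext.mk₀_comp_mk₀, show EtCoh.muι X n ≫ EtCoh.powMap X n = 0 from kernel.condition _, Ext.mk₀_zero,
            Ext.comp_zero]; rfl)
  · intro hξ
    obtain ⟨z, hz⟩ := Ext.covariant_sequence_exact₂ _ hS ξ ((comp_mk₀_powMap n i ξ).trans hξ)
    exact ⟨z, (Groth.L27.EtSite.HF_map_apply _ i z).trans hz⟩

theorem isPrimaryTorsion_of_nsmul {ℓ k : ℕ} (F : EtCoh.Ab X) (h : (ℓ ^ k) • 𝟙 F = 0) :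
    Dix.IsPrimaryTorsion ℓ F := fun U s x =>
  ⟨U, 𝟙 U, ⟨x, rfl⟩, k, by
    let e : (F ⟶ F) →+ F.obj.obj (op U) :=
      AddMonoidHom.mk' (fun f => f.hom.app (op U) s) fun a b => rfl
    have h' := congrArg e h
    rw [map_nsmul, map_zero] at h'
    rw [op_id, Functor.map_id_apply]
    exact h'⟩

theorem eq_zero_of_nsmul (ℓ n : ℕ) (hcd : Dix.CohDimLEAt X ℓ n) (k i : ℕ) (ξ : EtCoh.H X (EtCoh.Gm X) i)
    (hξ : ℓ ^ k • ξ = 0) (hi : n < i) (h : IsUnit ((ℓ ^ k : ℕ) : Γ(X, ⊤)) ∨ n + 1 < i) : ξ = 0 := by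
  let f := EtCoh.powMap X (ℓ ^ k)
  let q : EtCoh.Gm X ⟶ Abelian.image f := Abelian.factorThruImage f
  let r : Abelian.image f ⟶ EtCoh.Gm X := Abelian.image.ι f
  have hqr : q ≫ r = f := Abelian.image.fac f
  have hm : ∀ {Z : EtCoh.Ab X} (a : Z ⟶ EtCoh.Gm X), a ≫ f = (ℓ ^ k) • a := fun a => by
    simp only [f, EtCoh.powMap, Preadditive.comp_nsmul, Category.comp_id]
  have hm' : ∀ {Z : EtCoh.Ab X} (a : EtCoh.Gm X ⟶ Z), f ≫ a = (ℓ ^ k) • a := fun a => by
    simp only [f, EtCoh.powMap, Preadditive.nsmul_comp, Category.id_comp]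
  let S₁ : ShortComplex (EtCoh.Ab X) := ShortComplex.mk (kernel.ι q) q (kernel.condition _)
  have hS₁ : S₁.ShortExact :=
    { exact := ShortComplex.exact_of_f_is_kernel _ (kernelIsKernel _)
      mono_f := inferInstanceAs (Mono (kernel.ι q))
      epi_g := inferInstanceAs (Epi q) }
  let S₂ : ShortComplex (EtCoh.Ab X) := ShortComplex.mk r (cokernel.π r) (cokernel.condition _)
  have hS₂ : S₂.ShortExact :=
    { exact := ShortComplex.exact_of_g_is_cokernel _ (cokernelIsCokernel _)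
      mono_f := inferInstanceAs (Mono r)
      epi_g := inferInstanceAs (Epi (cokernel.π r)) }
  have hK : (ℓ ^ k) • 𝟙 (kernel q) = 0 := by
    rw [← cancel_mono (kernel.ι q), Preadditive.nsmul_comp, Category.id_comp, zero_comp, ← hm]
    exact (congrArg (kernel.ι q ≫ ·) hqr.symm).trans (by rw [← Category.assoc, kernel.condition, zero_comp])
  have hQ : (ℓ ^ k) • 𝟙 (cokernel r) = 0 := by
    rw [← cancel_epi (cokernel.π r), Preadditive.comp_nsmul, Category.comp_id, comp_zero, ← hm']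
    exact (congrArg (· ≫ cokernel.π r) hqr.symm).trans (by rw [Category.assoc, cokernel.condition, comp_zero])
  haveI : Subsingleton (EtCoh.H X (kernel q) i) := hcd _ (isPrimaryTorsion_of_nsmul _ hK) i hi
  have h1 : (ξ.comp (Ext.mk₀ q) (add_zero i)).comp (Ext.mk₀ r) (add_zero i) = 0 := by
    rw [Ext.comp_assoc_of_second_deg_zero, Ext.mk₀_comp_mk₀, hqr, comp_mk₀_powMap]
    exact hξ
  have h2 : ξ.comp (Ext.mk₀ q) (add_zero i) = 0 := by
    obtain ⟨j, rfl⟩ : ∃ j, i = j + 1 := ⟨i - 1, by omega⟩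
    obtain ⟨w, hw⟩ := Ext.covariant_sequence_exact₁ _ hS₂ (ξ.comp (Ext.mk₀ q) (add_zero _)) h1 rfl
    rw [← hw]
    rcases h with hu | hj
    · haveI : Epi (q ≫ r) := by rw [hqr]; exact epi_powMap hu
      haveI : Epi r := epi_of_epi q r
      have hz : IsZero (cokernel r) := isZero_cokernel_of_epi r
      exact (congrArg (fun z => Ext.comp z hS₂.extClass rfl)
        ((Ext.comp_mk₀_id w).symm.trans (by rw [(hz.eq_of_src (𝟙 _) 0), Ext.mk₀_zero, Ext.comp_zero]))).trans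
        (Ext.zero_comp _ _ _ _ _)
    · haveI : Subsingleton (EtCoh.H X (cokernel r) j) := hcd _ (isPrimaryTorsion_of_nsmul _ hQ) j (by omega)
      exact (congrArg (fun z => Ext.comp z hS₂.extClass rfl) (Subsingleton.elim (α := EtCoh.H X (cokernel r) j) w 0)).trans
        (Ext.zero_comp _ _ _ _ _)
  obtain ⟨z, hz⟩ := Ext.covariant_sequence_exact₂ _ hS₁ ξ h2
  rw [← hz]
  exact (congrArg (fun y => Ext.comp y (Ext.mk₀ S₁.f) (add_zero i)) (Subsingleton.elim (α := EtCoh.H X (kernel q) i) z 0)).trans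
    (Ext.zero_comp _ _ _ _ _)

end Groth.L28.GmTorsion
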